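import Groth.Agent.VBHypLib.Hyp
import Groth.Agent.ProjFormLib.Proj
import Groth.Agent.HopfIneqLib.Sections
import Groth.Agent.PushLinLib.HH
import Groth.Agent.PnCohLib.HypSec
import Groth.Agent.HorrocksPnLib.Main

/-! Cohomology of bundles and of their hyperplane restrictions. -/

set_option autoImplicit false
set_option linter.style.haveILetI false
set_option linter.unusedSectionVars false
set_option maxHeartbeats 1000000
universe u

noncomputable section

open CategoryTheory CategoryTheory.Limits AlgebraicGeometry TopologicalSpace Opposite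

namespace VBHyp

variable {k : Type u} [Field k]

theorem pb_twist {m n : ℕ} (r : CohB1.ProjSpace m k ⟶ CohB1.ProjSpace n k)
    (hO : Nonempty ((Scheme.Modules.pullback r).obj (Twist.twistProjSpace n k 1) ≅ Twist.twistProjSpace m k 1)) (t : ℤ) :
    Nonempty ((Scheme.Modules.pullback r).obj (Twist.twistProjSpace n k t) ≅ Twist.twistProjSpace m k t) :=
  PicPnLib.nonempty_iso_family (fun d => (Scheme.Modules.pullback r).obj (Twist.twistProjSpace n k d))
    (Twist.twistProjSpace m k)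
    (fun a b => ⟨(PicPnLib.pullTens r _ _).symm ≪≫ (Scheme.Modules.pullback r).mapIso (PicPnLib.twist_add n k a b).some⟩)
    ⟨(Scheme.Modules.pullback r).mapIso (PicPnLib.twist_zero n k).some ≪≫ KFlatLib.pullUnitIso r⟩
    (PicPnLib.twist_add m k) (PicPnLib.twist_zero m k) hO t

theorem pb_tensor_twist {m n : ℕ} (r : CohB1.ProjSpace m k ⟶ CohB1.ProjSpace n k)
    (hO : Nonempty ((Scheme.Modules.pullback r).obj (Twist.twistProjSpace n k 1) ≅ Twist.twistProjSpace m k 1))
    (E : (CohB1.ProjSpace n k).Modules) (t : ℤ) :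
    Nonempty ((Scheme.Modules.pullback r).obj (CohB1.tensorMod E (Twist.twistProjSpace n k t)) ≅
      CohB1.tensorMod ((Scheme.Modules.pullback r).obj E) (Twist.twistProjSpace m k t)) :=
  ⟨PicPnLib.pullTens r _ _ ≪≫ HilbPolyLib.congrRight _ (pb_twist r hO t).some⟩

/-- The ideal of a hyperplane is `O(-1)`. -/
theorem idealMod_iso {n : ℕ}
    (s : Coh.structureModule (CohB1.ProjSpace n k) ⟶ Twist.twistProjSpace n k 1) (hs : s ≠ 0) :
    Nonempty (ClSub.idealMod (PicF2.zeroScheme _ s) ≅ Twist.twistProjSpace n k (-1)) := by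
  haveI := VBPnLib.isIntegral_pn k n
  haveI := VBPnLib.isLocallyNoetherian_pn k n
  haveI : Mono s := VBPnLib.mono_of_line (CurvLib.locFree_of_isInvertible CurvLib.isInvertible_structureModule)
    (VBPnLib.twist_rank k n 1) hs
  obtain ⟨e⟩ := AmpleFinGenLib.idealMod_tensor_iso (PicPnLib.twist_inv n k 1) s
  obtain ⟨ea⟩ := PicPnLib.twist_add n k 1 (-1)
  obtain ⟨e0⟩ := PicPnLib.twist_zero n k
  let φ : CohB1.tensorMod (Twist.twistProjSpace n k 1) (Twist.twistProjSpace n k (-1)) ≅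
      Coh.structureModule (CohB1.ProjSpace n k) := ea ≪≫ eqToIso (by norm_num) ≪≫ e0
  exact ⟨(HilbPolyLib.unitLeft _).symm ≪≫ HilbPolyLib.swapIso _ _ ≪≫ HilbPolyLib.congrRight _ φ.symm ≪≫
    (HilbPolyLib.assocIso _ _ _).symm ≪≫ HilbPolyLib.congrLeft e _ ≪≫ HilbPolyLib.unitLeft _⟩

/-- A closed immersion with the same kernel gives the same quotient. -/
theorem quotMod_iso {X Y : Scheme.{u}} (r : Y ⟶ X) [IsClosedImmersion r] (I : X.IdealSheafData) (h : r.ker = I) :
    Nonempty (ClSub.quotMod I ≅ (Scheme.Modules.pushforward r).obj (Coh.structureModule Y)) := by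
  have hk : I.subschemeι.ker = r.ker := I.ker_subschemeι.trans h.symm
  let l := IsClosedImmersion.lift I.subschemeι r hk.le
  haveI : IsIso l := IsClosedImmersion.isIso_lift I.subschemeι r hk
  have hl : l ≫ I.subschemeι = r := IsClosedImmersion.lift_fac _ _ _
  haveI : IsIso (ClSub.unitToPush l) := Scheme.Modules.Hom.isIso_iff_isIso_app.2 fun U =>
    (ConcreteCategory.isIso_iff_bijective _).2
      ((ConcreteCategory.isIso_iff_bijective (l.app U)).1 inferInstance)
  exact ⟨(Scheme.Modules.pushforward I.subschemeι).mapIso (asIso (ClSub.unitToPush l)) ≪≫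
    (Scheme.Modules.pushforwardComp l I.subschemeι).app _ ≪≫ eqToIso (by rw [hl])⟩

variable {n : ℕ} {R : ℕ} {E : (CohB1.ProjSpace (n + 1) k).Modules}

/-- The restriction sequence of a bundle. -/
theorem exists_seq (hE : FlatMod.IsFinLocFreeOfRank R E)
    {s : Coh.structureModule (CohB1.ProjSpace (n + 1) k) ⟶ Twist.twistProjSpace (n + 1) k 1} (hs : s ≠ 0)
    (r : CohB1.ProjSpace n k ⟶ CohB1.ProjSpace (n + 1) k) [IsClosedImmersion r]
    (hk : r.ker = PicF2.zeroScheme _ s)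
    (hO : Nonempty ((Scheme.Modules.pullback r).obj (Twist.twistProjSpace (n + 1) k 1) ≅ Twist.twistProjSpace n k 1))
    (t : ℤ) :
    ∃ S : ShortComplex (CohB1.ProjSpace (n + 1) k).Modules, S.ShortExact ∧
      Nonempty (S.X₁ ≅ CohB1.tensorMod E (Twist.twistProjSpace (n + 1) k (t - 1))) ∧
      Nonempty (S.X₂ ≅ CohB1.tensorMod E (Twist.twistProjSpace (n + 1) k t)) ∧
      Nonempty (S.X₃ ≅ (Coh.push r).obj
        (CohB1.tensorMod ((Scheme.Modules.pullback r).obj E) (Twist.twistProjSpace n k t))) := by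
  let F := CohB1.tensorMod E (Twist.twistProjSpace (n + 1) k t)
  obtain ⟨ei⟩ := idealMod_iso s hs
  obtain ⟨eq⟩ := quotMod_iso r _ hk
  obtain ⟨ea⟩ := PicPnLib.twist_add (n + 1) k t (-1)
  obtain ⟨et⟩ := pb_tensor_twist r hO E t
  have hEf : FlatMod.IsFinLocFree E := CurveVBLib.isFinLocFree_of_rank hE
  have hF : FlatMod.IsFinLocFree F := CurveVBLib.isFinLocFree_of_rank
    (HopfIneqLib.locFree_tensor hE (VBPnLib.twist_rank k (n + 1) t))
  let S := (CurvLib.idealSeq (PicF2.zeroScheme _ s)).map (ProjFormLib.tF F)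
  haveI := ProjFormLib.isIso_projApp r hF (Coh.structureModule (CohB1.ProjSpace n k))
  let pr := asIso (ProjFormLib.projApp r F (Coh.structureModule (CohB1.ProjSpace n k)))
  exact ⟨S, ProjFormLib.shortExact_tens hF (CurvLib.idealSeq_shortExact _),
    ⟨HilbPolyLib.congrRight F ei ≪≫ HilbPolyLib.assocIso _ _ _ ≪≫ HilbPolyLib.congrRight E
      (ea ≪≫ eqToIso (by rw [← sub_eq_add_neg]))⟩,
    ⟨HilbPolyLib.swapIso _ _ ≪≫ HilbPolyLib.unitLeft F⟩,
    ⟨HilbPolyLib.congrRight F eq ≪≫ pr ≪≫ (Scheme.Modules.pushforward r).mapIso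
      (HilbPolyLib.swapIso _ _ ≪≫ HilbPolyLib.unitLeft _ ≪≫ et)⟩⟩

theorem subsingleton_push (r : CohB1.ProjSpace n k ⟶ CohB1.ProjSpace (n + 1) k) [IsClosedImmersion r]
    (hr : r ≫ CohB1.ProjSpace.toSpec (n + 1) k = CohB1.ProjSpace.toSpec n k)
    (G : (CohB1.ProjSpace n k).Modules) [Coh.IsQCoh G] (p : ℕ) (h : Subsingleton (Coh.HH (CohB1.ProjSpace n k) G p)) :
    Subsingleton (Coh.HH (CohB1.ProjSpace (n + 1) k) ((Coh.push r).obj G) p) := by
  haveI := VBPnLib.isProper_pn k (n + 1)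
  haveI : QuasiCompact (CohB1.ProjSpace.toSpec (n + 1) k) :=
    inferInstanceAs (QuasiCompact (CohB1.ProjSpace (n + 1) k ↘ Spec (CommRingCat.of k)))
  haveI : IsSeparated (CohB1.ProjSpace.toSpec (n + 1) k) :=
    inferInstanceAs (IsSeparated (CohB1.ProjSpace (n + 1) k ↘ Spec (CommRingCat.of k)))
  obtain ⟨e⟩ := PushLinLib.nonempty_HH_push_linear r G hr p
  exact e.symm.toEquiv.subsingleton

theorem isQCoh_restr (hE : FlatMod.IsFinLocFreeOfRank R E)
    (r : CohB1.ProjSpace n k ⟶ CohB1.ProjSpace (n + 1) k) (t : ℤ) :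
    Coh.IsQCoh (CohB1.tensorMod ((Scheme.Modules.pullback r).obj E) (Twist.twistProjSpace n k t)) :=
  haveI := VBPnLib.isLocallyNoetherian_pn k n
  haveI := VBPnLib.isLocallyNoetherian_pn k (n + 1)
  (SerreVanLib.isCoh_tensor (ConsLib.isCoh_pullback r (CurvLib.isCoh_of_locFree hE)) (PicPnLib.twist_inv n k t)).1

variable (hE : FlatMod.IsFinLocFreeOfRank R E)
  {s : Coh.structureModule (CohB1.ProjSpace (n + 1) k) ⟶ Twist.twistProjSpace (n + 1) k 1} (hs : s ≠ 0)
  (r : CohB1.ProjSpace n k ⟶ CohB1.ProjSpace (n + 1) k) [IsClosedImmersion r]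
  (hk : r.ker = PicF2.zeroScheme _ s)
  (hr : r ≫ CohB1.ProjSpace.toSpec (n + 1) k = CohB1.ProjSpace.toSpec n k)
  (hO : Nonempty ((Scheme.Modules.pullback r).obj (Twist.twistProjSpace (n + 1) k 1) ≅ Twist.twistProjSpace n k 1))
  {t : ℤ} {p : ℕ}

include hE hs hk hr hO in
theorem subsingleton_up
    (h₁ : Subsingleton (Coh.HH (CohB1.ProjSpace (n + 1) k) (CohB1.tensorMod E (Twist.twistProjSpace (n + 1) k (t - 1))) p))
    (h₃ : Subsingleton (Coh.HH (CohB1.ProjSpace n k)
      (CohB1.tensorMod ((Scheme.Modules.pullback r).obj E) (Twist.twistProjSpace n k t)) p)) :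
    Subsingleton (Coh.HH (CohB1.ProjSpace (n + 1) k) (CohB1.tensorMod E (Twist.twistProjSpace (n + 1) k t)) p) := by
  obtain ⟨S, hS, ⟨e₁⟩, ⟨e₂⟩, ⟨e₃⟩⟩ := exists_seq hE hs r hk hO t
  haveI := isQCoh_restr hE r t
  haveI : Subsingleton (Coh.HH _ S.X₁ p) := SerreVanLib.subsingleton_HH_of_iso e₁ p h₁
  exact SerreVanLib.subsingleton_HH_of_iso e₂.symm p ((PnCohLib.surjective_of_X₃ (k := k) hS
    (SerreVanLib.subsingleton_HH_of_iso e₃ p (subsingleton_push r hr _ p h₃))).subsingleton)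

include hE hs hk hr hO in
theorem subsingleton_down
    (h₂ : Subsingleton (Coh.HH (CohB1.ProjSpace (n + 1) k) (CohB1.tensorMod E (Twist.twistProjSpace (n + 1) k t)) (p + 1)))
    (h₃ : Subsingleton (Coh.HH (CohB1.ProjSpace n k)
      (CohB1.tensorMod ((Scheme.Modules.pullback r).obj E) (Twist.twistProjSpace n k t)) p)) :
    Subsingleton (Coh.HH (CohB1.ProjSpace (n + 1) k)
      (CohB1.tensorMod E (Twist.twistProjSpace (n + 1) k (t - 1))) (p + 1)) := by
  obtain ⟨S, hS, ⟨e₁⟩, ⟨e₂⟩, ⟨e₃⟩⟩ := exists_seq hE hs r hk hO t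
  haveI := isQCoh_restr hE r t
  exact SerreVanLib.subsingleton_HH_of_iso e₁.symm (p + 1) (PnCohLib.subsingleton_X₁_succ hS
    (SerreVanLib.subsingleton_HH_of_iso e₂ (p + 1) h₂)
    (SerreVanLib.subsingleton_HH_of_iso e₃ p (subsingleton_push r hr _ p h₃)))

end VBHyp
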