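import Groth.Agent.ProjSecLib.Hyperplane
import Groth.Agent.SecDivLib.Zero
import Groth.Agent.AmpleFinGenLib.Divisor
import Groth.Agent.VBPnLib.Pn
import Groth.Agent.GenusZeroLib.Mult
import Groth.Agent.PnCohLib.Hypersurface
import Groth.Agent.AmpleThLib.ProjA
import Groth.Agent.TwistLib.CoordGen

/-! Hyperplanes in projective space and linear subspaces inside them. -/

set_option autoImplicit false
set_option linter.style.haveILetI false
set_option linter.unusedSectionVars false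
set_option maxHeartbeats 1000000
universe u

noncomputable section

open CategoryTheory CategoryTheory.Limits AlgebraicGeometry TopologicalSpace Opposite

namespace VBHyp

variable {k : Type u} [Field k] {n : ℕ}

/-- The zero section cuts out everything. -/
theorem zeroScheme_zero {X : Scheme.{u}} {L : X.Modules} (hL : PicF.IsInvertible L) :
    PicF2.zeroScheme L (0 : Coh.structureModule X ⟶ L) = ⊥ :=
  SecDivLib.ext_affine_cover fun y => by
    obtain ⟨U, e, hyU, he⟩ := TwistLib.exists_genOn hL y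
    obtain ⟨W, hW, hyW, hWU⟩ := exists_isAffineOpen_mem_and_subset hyU
    refine ⟨⟨W, hW⟩, hyW, ?_⟩
    rw [MeroLib.zeroScheme_ideal_of_genOn hL (0 : Coh.structureModule X ⟶ L) (W := ⟨W, hW⟩) (he.res hWU)
      (c := 0) (by rw [zero_smul]; rfl), Ideal.span_singleton_eq_bot.2 rfl, Scheme.IdealSheafData.ideal_bot]
    rfl

/-- The hyperplane of a nonzero linear form. -/
theorem exists_hyperplane
    (s : Coh.structureModule (CohB1.ProjSpace (n + 1) k) ⟶ Twist.twistProjSpace (n + 1) k 1) (hs : s ≠ 0) :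
    ∃ r : CohB1.ProjSpace n k ⟶ CohB1.ProjSpace (n + 1) k, IsClosedImmersion r ∧
      r ≫ CohB1.ProjSpace.toSpec (n + 1) k = CohB1.ProjSpace.toSpec n k ∧
      r.ker = PicF2.zeroScheme _ s ∧
      Nonempty ((Scheme.Modules.pullback r).obj (Twist.twistProjSpace (n + 1) k 1) ≅ Twist.twistProjSpace n k 1) := by
  classical
  haveI := GenusZeroLib.isIntegral_projSpace k (n + 1)
  haveI : IsIntegral (Proj (CohB1.polyGrading (n + 1) k)) := GenusZeroLib.isIntegral_projSpace k (n + 1)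
  let 𝒜 := CohB1.polyGrading (n + 1) k
  let L : (Proj 𝒜).Modules := Twist.twist 𝒜 ((1 : ℕ) : ℤ)
  let s' : Coh.structureModule (Proj 𝒜) ⟶ L := s
  have hL : PicF.IsInvertible L := TwistLib.twist_isInvertible 𝒜 (eq_top_iff.mpr fun x _ => by
    obtain ⟨i, hi⟩ := ProjSecLib.cover (R := k) (n := n + 1) x
    exact TopologicalSpace.Opens.mem_iSup.mpr ⟨⟨MvPolynomial.X i, ProjSecLib.X_mem i⟩, hi⟩) _
  obtain ⟨⟨a, ha⟩, hval⟩ := ProjSecLib.globalOf_surjective (R := k) (n := n + 1) (d := 1)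
    (show Γ(L, ⊤) from ProjSecLib.sec s' ⊤)
  have hsec : ProjSecLib.sec s' ⊤ ≠ 0 := fun h => hs (ProjSecLib.eq_zero_of_sec s' h)
  obtain ⟨c, hc⟩ : ∃ c : Fin (n + 2) → k, a = ProjSecLib.form k n (c := c) := by
    refine ⟨fun i => MvPolynomial.coeff (Finsupp.single i 1) a, MvPolynomial.ext _ _ fun e => ?_⟩
    rw [show ProjSecLib.form k n (c := fun i => MvPolynomial.coeff (Finsupp.single i 1) a) =
      ∑ i, MvPolynomial.C (MvPolynomial.coeff (Finsupp.single i 1) a) * MvPolynomial.X i from rfl,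
      MvPolynomial.coeff_sum]
    simp only [MvPolynomial.coeff_C_mul, MvPolynomial.coeff_X']
    by_cases he : Finsupp.degree e = 1
    · obtain ⟨i, rfl⟩ := (Finsupp.sum_eq_one_iff e).mp he
      rw [Finset.sum_eq_single i]
      · simp
      · intro j _ hj
        simp [Finsupp.single_eq_single_iff, hj]
      · simp
    · rw [MvPolynomial.IsHomogeneous.coeff_eq_zero ha he, Finset.sum_eq_zero]
      intro j _
      rw [if_neg, mul_zero]
      intro hj
      exact he (by rw [← hj]; simp)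
  subst hc
  obtain ⟨p, hp⟩ : ∃ p, c p ≠ 0 := by
    by_contra hne
    push Not at hne
    apply hsec
    refine hval.symm.trans ?_
    have h0 : (ProjSecLib.form k n (c := c)) = 0 := Finset.sum_eq_zero fun i _ => by rw [hne i, map_zero, zero_mul]
    refine TwistLib.sec_ext fun x => ?_
    show Localization.mk (ProjSecLib.form k n (c := c)) _ = 0
    rw [h0, Localization.mk_zero]
  let φ := ProjSecLib.phi k n c p
  have hφs : Function.Surjective φ := ProjSecLib.phi_surjective k n c p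
  have hφ := ProjClosedLib.irrelevant_le_map φ hφs
  let r := Proj.map φ hφ
  haveI : IsClosedImmersion r := ProjClosedLib.isClosedImmersion_map φ hφs hφ
  let u : ∀ j, Γ(L, Proj.basicOpen 𝒜 (MvPolynomial.X j)) := fun j =>
    AmpleLib.res L le_top (Twist.globalOf 𝒜 ⟨MvPolynomial.X j, ProjSecLib.X_mem j⟩)
  let ℓ : ∀ j, Γ(Proj 𝒜, Proj.basicOpen 𝒜 (MvPolynomial.X j)) := fun j =>
    ProjClosedLib.fr 𝒜 (ProjSecLib.X_mem j) (ProjSecLib.form_mem k n (c := c))
  have hu : ∀ j, ℓ j • u j = ProjSecLib.sec s' (Proj.basicOpen 𝒜 (MvPolynomial.X j)) := fun j => by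
    refine (TwistLib.frac_smul_globalOf 𝒜 (ProjSecLib.X_mem j) (ProjSecLib.form_mem k n (c := c))).trans ?_
    exact (congrArg (AmpleLib.res L le_top) hval).trans (ProjSecLib.sec_res s' le_top)
  have hug : ∀ j, AmpleLib.GenOn L (u j) := fun j => TwistLib.globalOf_genOn 𝒜 (ProjSecLib.X_mem j)
  let A : Fin (n + 2) → (Proj 𝒜).affineOpens := fun j =>
    ⟨Proj.basicOpen 𝒜 (MvPolynomial.X j), Proj.isAffineOpen_basicOpen 𝒜 _ (ProjSecLib.X_mem j) one_pos⟩
  have hAtop : (⨆ j, (A j).1) = ⊤ := eq_top_iff.mpr fun x _ => by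
    obtain ⟨j, hj⟩ := ProjSecLib.cover (R := k) (n := n + 1) x
    exact TopologicalSpace.Opens.mem_iSup.mpr ⟨j, hj⟩
  have hker : r.ker = PicF2.zeroScheme L s' := by
    refine Scheme.IdealSheafData.ext_of_iSup_eq_top A hAtop fun j => ?_
    rw [MeroLib.zeroScheme_ideal_of_genOn hL s' (W := A j) (hug j) (hu j)]
    ext y
    rw [Scheme.Hom.ker_apply, RingHom.mem_ker, Ideal.mem_span_singleton']
    exact (ProjSecLib.mem_ker_iff k n hp j hφ y).trans ⟨fun ⟨b, hb⟩ => ⟨b, hb.symm⟩, fun ⟨b, hb⟩ => ⟨b, hb.symm⟩⟩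
  refine ⟨r, ProjClosedLib.isClosedImmersion_map φ hφs hφ, AmpleThLib.map_baseA φ hφ fun a => ?_, hker, ?_⟩
  · show MvPolynomial.aeval (ProjSecLib.phiFun k n c p) (algebraMap k _ a) = _
    exact AlgHom.commutes _ a
  · exact ProjSecLib.exists_iso_pullback_map φ hφ (fun i => MvPolynomial.X i) ProjSecLib.X_mem
      (ProjSecLib.exists_phi_X_ne_zero k n c p)

/-- A linear subspace of smaller dimension lies in a hyperplane. -/
theorem exists_factor {m : ℕ} (hm : 1 ≤ m) (hmn : m ≤ n)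
    (i : CohB1.ProjSpace m k ⟶ CohB1.ProjSpace (n + 1) k) [IsClosedImmersion i]
    (hi : i ≫ CohB1.ProjSpace.toSpec (n + 1) k = CohB1.ProjSpace.toSpec m k)
    (hO : Nonempty ((Scheme.Modules.pullback i).obj (Twist.twistProjSpace (n + 1) k 1) ≅ Twist.twistProjSpace m k 1)) :
    ∃ (s : Coh.structureModule (CohB1.ProjSpace (n + 1) k) ⟶ Twist.twistProjSpace (n + 1) k 1)
      (r : CohB1.ProjSpace n k ⟶ CohB1.ProjSpace (n + 1) k) (j : CohB1.ProjSpace m k ⟶ CohB1.ProjSpace n k),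
      s ≠ 0 ∧ IsClosedImmersion r ∧ r.ker = PicF2.zeroScheme _ s ∧
      r ≫ CohB1.ProjSpace.toSpec (n + 1) k = CohB1.ProjSpace.toSpec n k ∧
      Nonempty ((Scheme.Modules.pullback r).obj (Twist.twistProjSpace (n + 1) k 1) ≅ Twist.twistProjSpace n k 1) ∧
      j ≫ r = i ∧ IsClosedImmersion j ∧ j ≫ CohB1.ProjSpace.toSpec n k = CohB1.ProjSpace.toSpec m k ∧
      Nonempty ((Scheme.Modules.pullback j).obj (Twist.twistProjSpace n k 1) ≅ Twist.twistProjSpace m k 1) := by
  classical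
  obtain ⟨eO⟩ := hO
  let P := CohB1.ProjSpace (n + 1) k
  let 𝒜 := CohB1.polyGrading (n + 1) k
  let O1 := Twist.twistProjSpace (n + 1) k 1
  let L := (Scheme.Modules.pullback i).obj O1
  have hL : PicF.IsInvertible L := TwistLib.coord_isInvertible (n + 1) k i
  haveI : IsProper (CohB1.ProjSpace m k ↘ Spec (CommRingCat.of k)) := VBPnLib.isProper_pn k m
  haveI := CurvLib.isNoetherian k (X := CohB1.ProjSpace m k)
  letI := GenusZeroLib.kmod k L
  haveI := CurvLib.finite_HH (k := k) (CurvLib.isCoh_of_isInvertible hL) 0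
  haveI : Module.Finite k Γ(L, ⊤) := Module.Finite.equiv (GenusZeroLib.e0k k L)
  let g : 𝒜 1 → Γ(O1, ⊤) := fun a => Twist.globalOf 𝒜 a
  have hadd : ∀ a b, g (a + b) = g a + g b := fun a b => TwistLib.sec_ext fun x => by
    show Localization.mk ((a : MvPolynomial (Fin (n + 2)) k) + b) _ = Localization.mk _ _ + Localization.mk _ _
    rw [Localization.add_mk_self]
  let gh : 𝒜 1 →+ Γ(O1, ⊤) := AddMonoidHom.mk' g hadd
  have hsm : ∀ (c : k) (a : 𝒜 1), (show Γ(L, ⊤) from KFlatLib.puSec i (g (c • a))) =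
      GenusZeroLib.ρ k (X := CohB1.ProjSpace m k) c • (show Γ(L, ⊤) from KFlatLib.puSec i (g a)) := fun c a => by
    have h1 : g (c • a) = (show Γ(P, ⊤) from Coh.toGlobal (CohB1.ProjSpace.toSpec (n + 1) k) c) • g a :=
      ProjSecLib.globalOf_smul c a
    refine (congrArg (KFlatLib.puSec i) h1).trans ?_
    refine (TwistLib.puSec_smul i _ _).trans
      (congrArg (fun z : Γ(CohB1.ProjSpace m k, ⊤) => z • (show Γ(L, ⊤) from KFlatLib.puSec i (g a))) ?_)
    rw [GenusZeroLib.ρ, show (CohB1.ProjSpace m k ↘ Spec (CommRingCat.of k)) = CohB1.ProjSpace.toSpec m k from rfl,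
      ← hi]
    rfl
  let v : Fin (n + 2) → Γ(L, ⊤) := fun j => KFlatLib.puSec i (g ⟨MvPolynomial.X j, ProjSecLib.X_mem j⟩)
  have hdim : Module.finrank k Γ(L, ⊤) = m + 1 := by
    rw [← (GenusZeroLib.e0k k L).finrank_eq, (CurvLib.hIso (k := k) eO 0).finrank_eq,
      PnCohLib.finrank_zero_twist (N := m) k hm 1, show ((1 : ℤ) + m).toNat = m + 1 by omega,
      Nat.choose_succ_self_right]
  obtain ⟨c, hc, p, hp⟩ : ∃ c : Fin (n + 2) → k, ∑ j, c j • v j = 0 ∧ ∃ p, c p ≠ 0 := by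
    refine Fintype.not_linearIndependent_iff.1 fun h => ?_
    have h1 := h.fintype_card_le_finrank
    rw [hdim, Fintype.card_fin] at h1
    omega
  let a : 𝒜 1 := ∑ j, c j • ⟨MvPolynomial.X j, ProjSecLib.X_mem j⟩
  let pu : Γ(O1, ⊤) →+ Γ(L, ⊤) := (OmegaSh.pullSect i O1 ⊤).hom
  have h1 : pu (gh a) = 0 := by
    rw [map_sum, map_sum, ← hc]
    exact Finset.sum_congr rfl fun j _ => hsm (c j) _
  let s : Coh.structureModule P ⟶ O1 := QCohLib.unitHom O1 (gh a)
  have hsv : MeroLib.secOn s ⊤ = gh a := by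
    show (1 : Γ(P, ⊤)) • O1.presheaf.map (homOfLE le_top).op (gh a) = gh a
    rw [one_smul]
    simp
  have hs : s ≠ 0 := fun h0 => hp (by
    have h2 : a = 0 := ProjSecLib.globalOf_injective (show gh a = gh 0 by rw [map_zero, ← hsv, h0]; rfl)
    have h4 := congrArg (fun t : 𝒜 1 => MvPolynomial.coeff (Finsupp.single p 1) (t : MvPolynomial (Fin (n + 2)) k)) h2
    simpa [a, MvPolynomial.coeff_sum, MvPolynomial.coeff_X, Finsupp.single_eq_single_iff] using h4)
  obtain ⟨r, hr, hrs, hrk, ⟨er⟩⟩ := exists_hyperplane s hs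
  haveI := hr
  have hps : SecDivLib.pbSec i s = 0 := by
    refine ProjSecLib.eq_zero_of_sec _ ?_
    show MeroLib.secOn (SecDivLib.pbSec i s) ⊤ = 0
    rw [SecDivLib.secOn_pbSec i s (U := ⊤) (V := ⊤) le_top, hsv]
    refine (KFlatLib.puSecLE_apply _ _ _ _).trans ?_
    exact (congrArg (AmpleLib.res _ _) h1).trans (map_zero _)
  have h2 : (PicF2.zeroScheme O1 s).comap i = ⊥ :=
    (SecDivLib.zeroScheme_pbSec i (PicPnLib.twist_inv (n + 1) k 1) s).symm.trans
      ((congrArg (PicF2.zeroScheme _) hps).trans (zeroScheme_zero hL))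
  have h3 : PicF2.zeroScheme O1 s ≤ Scheme.IdealSheafData.map ⊥ i :=
    Scheme.IdealSheafData.le_map_iff_comap_le.2 h2.le
  have hle : r.ker ≤ i.ker := hrk.le.trans (h3.trans (Scheme.IdealSheafData.map_bot i).le)
  let j := IsClosedImmersion.lift r i hle
  have hj : j ≫ r = i := IsClosedImmersion.lift_fac r i hle
  haveI : IsClosedImmersion (j ≫ r) := hj.symm ▸ ‹IsClosedImmersion i›
  refine ⟨s, r, j, hs, hr, hrk, hrs, ⟨er⟩, hj, IsClosedImmersion.of_comp j r, ?_, ?_⟩
  · rw [← hrs, ← Category.assoc, hj, hi]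
  · exact ⟨(Scheme.Modules.pullback j).mapIso er.symm ≪≫
      (Scheme.Modules.pullbackComp j r).app O1 ≪≫ eqToIso (by rw [hj]) ≪≫ eO⟩

end VBHyp
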