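import Groth.Agent.VBHypLib.Seq
import Groth.Agent.PnDualLib.ProjAlg
import Groth.Agent.PnDualLib.Duality
import Groth.Agent.PnCohLib.Serre
import Groth.Agent.PnCohLib.Resol
import Groth.Agent.GenusZeroLib.PSpace

/-! Splitting and vanishing tested on a linear subspace. -/

set_option autoImplicit false
set_option linter.style.haveILetI false
set_option linter.unusedSectionVars false
set_option maxHeartbeats 1000000
universe u

noncomputable section

open CategoryTheory CategoryTheory.Limits AlgebraicGeometry TopologicalSpace Opposite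

namespace VBHyp

variable {k : Type u} [Field k]

/-- Downward propagation. -/
theorem int_down {P : ℤ → Prop} {t₀ : ℤ} (h : ∀ t, t₀ ≤ t → P t) (hs : ∀ t, P t → P (t - 1)) (t : ℤ) : P t := by
  suffices ∀ m : ℕ, P (t₀ - m) by
    rcases le_or_gt t₀ t with h1 | h1
    · exact h t h1
    · obtain ⟨m, rfl⟩ : ∃ m : ℕ, t = t₀ - m := ⟨(t₀ - t).toNat, by omega⟩
      exact this m
  intro m
  induction m with
  | zero => exact h _ (by simp)
  | succ m ih => rw [show t₀ - ((m + 1 : ℕ) : ℤ) = t₀ - m - 1 by push_cast; ring]; exact hs _ ih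

/-- Upward propagation below a bound. -/
theorem int_up {P : ℤ → Prop} {t₀ b : ℤ} (h : ∀ t, t ≤ t₀ → P t) (hs : ∀ t, t ≤ b → P (t - 1) → P t) (t : ℤ)
    (ht : t ≤ b) : P t := by
  suffices ∀ m : ℕ, t₀ + m ≤ b → P (t₀ + m) by
    rcases le_or_gt t t₀ with h1 | h1
    · exact h t h1
    · obtain ⟨m, rfl⟩ : ∃ m : ℕ, t = t₀ + m := ⟨(t - t₀).toNat, by omega⟩
      exact this m ht
  intro m hm
  induction m with
  | zero => exact h _ (by simp)
  | succ m ih => exact hs _ hm (by rw [show t₀ + ((m + 1 : ℕ) : ℤ) - 1 = t₀ + m by push_cast; ring]; exact ih (by omega))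

/-- Bundles pull back to bundles of the same rank. -/
theorem isFinLocFreeOfRank_pb {X Y : Scheme.{u}} (f : X ⟶ Y) {n : ℕ} {E : Y.Modules}
    (hE : FlatMod.IsFinLocFreeOfRank n E) :
    FlatMod.IsFinLocFreeOfRank n ((Scheme.Modules.pullback f).obj E) := by
  intro x
  obtain ⟨U, hx, ⟨φ⟩⟩ := hE (f x)
  let V : X.Opens := f ⁻¹ᵁ U
  let W : V.toScheme ⟶ U.toScheme := f ∣_ U
  refine ⟨V, hx, ⟨?_ ≪≫ (Scheme.Modules.pullback W).mapIso
    (((Scheme.Modules.restrictFunctorIsoPullback U.ι).app E).symm ≪≫ φ) ≪≫ KFlatLib.pullFreeIso W n⟩⟩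
  exact (Scheme.Modules.restrictFunctorIsoPullback V.ι).app _ ≪≫ (Scheme.Modules.pullbackComp V.ι f).app E ≪≫
    (Scheme.Modules.pullbackCongr (morphismRestrict_ι f U)).symm.app E ≪≫
    ((Scheme.Modules.pullbackComp W U.ι).app E).symm

theorem restrict_data {n m : ℕ} {j : CohB1.ProjSpace m k ⟶ CohB1.ProjSpace n k}
    {r : CohB1.ProjSpace n k ⟶ CohB1.ProjSpace (n + 1) k} {i : CohB1.ProjSpace m k ⟶ CohB1.ProjSpace (n + 1) k}
    (h : j ≫ r = i) {E : (CohB1.ProjSpace (n + 1) k).Modules} {F : (CohB1.ProjSpace m k).Modules}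
    (e : Nonempty ((Scheme.Modules.pullback i).obj E ≅ F)) :
    Nonempty ((Scheme.Modules.pullback j).obj ((Scheme.Modules.pullback r).obj E) ≅ F) :=
  ⟨(Scheme.Modules.pullbackComp j r).app E ≪≫ eqToIso (by rw [h]) ≪≫ e.some⟩

theorem isIso_self {m : ℕ} (i : CohB1.ProjSpace m k ⟶ CohB1.ProjSpace m k) [IsClosedImmersion i] : IsIso i :=
  GenusZeroLib.isIso_of_isClosedImmersion k m i (GenusZeroLib.dim_projSpace k m)

/-- Pulling back along an automorphism. -/
theorem pb_inv {m : ℕ} (i : CohB1.ProjSpace m k ⟶ CohB1.ProjSpace m k) [IsIso i]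
    {E F : (CohB1.ProjSpace m k).Modules} (e : (Scheme.Modules.pullback i).obj E ≅ F) :
    Nonempty (E ≅ (Scheme.Modules.pullback (inv i)).obj F) :=
  ⟨((Scheme.Modules.pullbackId _).app E).symm ≪≫ ((Scheme.Modules.pullbackCongr (IsIso.inv_hom_id i)).app E).symm ≪≫
    ((Scheme.Modules.pullbackComp (inv i) i).app E).symm ≪≫ (Scheme.Modules.pullback (inv i)).mapIso e⟩

/-- Bundles have no cohomology below the dimension in very negative twists. -/
theorem exists_vanish_neg {n R : ℕ} {E : (CohB1.ProjSpace n k).Modules} (hE : FlatMod.IsFinLocFreeOfRank R E) :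
    ∃ t₀ : ℤ, ∀ t : ℤ, t ≤ t₀ → ∀ p : ℕ, p < n →
      Subsingleton (Coh.HH (CohB1.ProjSpace n k) (CohB1.tensorMod E (Twist.twistProjSpace n k t)) p) := by
  haveI := VBPnLib.isProper_pn k n
  haveI := VBPnLib.isIntegral_pn k n
  obtain ⟨m₀, h⟩ := (PnDualLib.eventually_below_iff_depth k n E (CurvLib.isCoh_of_locFree hE) n).2
    ((PnDualLib.isFinLocFree_iff_depth (k := k) (VBPnLib.regular_pn k n) (GenusZeroLib.dim_projSpace k n)
      (CurvLib.isCoh_of_locFree hE)).1 (CurveVBLib.isFinLocFree_of_rank hE))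
  refine ⟨-m₀, fun t ht p hp => ?_⟩
  have h1 := (PnDualLib.subsingleton_twistBy_iff k n E (-(-t)) p).1 (h (-t) (by omega) p hp)
  rw [neg_neg] at h1
  exact SerreVanLib.subsingleton_HH_of_iso (HilbPolyLib.swapIso _ _) p h1

/-- A bundle of rank two trivial on one line has no sections in negative twists. -/
theorem h0_negative : ∀ (n : ℕ) (E : (CohB1.ProjSpace n k).Modules), FlatMod.IsFinLocFreeOfRank 2 E →
    ∀ (i : CohB1.ProjSpace 1 k ⟶ CohB1.ProjSpace n k), IsClosedImmersion i →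
    i ≫ CohB1.ProjSpace.toSpec n k = CohB1.ProjSpace.toSpec 1 k →
    Nonempty ((Scheme.Modules.pullback i).obj (Twist.twistProjSpace n k 1) ≅ Twist.twistProjSpace 1 k 1) →
    Nonempty ((Scheme.Modules.pullback i).obj E ≅ FlatMod.freeMod (CohB1.ProjSpace 1 k) 2) →
    ∀ d : ℤ, 1 ≤ d →
      Subsingleton (Coh.HH (CohB1.ProjSpace n k) (CohB1.tensorMod E (Twist.twistProjSpace n k (-d))) 0)
  | 0, _, _, i, hi, _, _, _, _, _ => by
    exfalso
    have h := i.isClosedEmbedding.isInducing.topologicalKrullDim_le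
    rw [GenusZeroLib.dim_projSpace, GenusZeroLib.dim_projSpace] at h
    exact absurd (WithBot.coe_le_coe.1 h) (by simp)
  | 1, E, _, i, hi, _, _, htriv, d, hd => by
    haveI := isIso_self i
    obtain ⟨e⟩ := pb_inv i htriv.some
    obtain ⟨f⟩ : Nonempty ((Scheme.Modules.pullback (inv i)).obj (FlatMod.freeMod (CohB1.ProjSpace 1 k) 2) ≅
        FlatMod.freeMod (CohB1.ProjSpace 1 k) 2) :=
      ⟨PreservesCoproduct.iso (Scheme.Modules.pullback (inv i)) _ ≪≫ Sigma.mapIso fun _ => KFlatLib.pullUnitIso (inv i)⟩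
    refine SerreVanLib.subsingleton_HH_of_iso (HilbPolyLib.congrLeft (e ≪≫ f) _ ≪≫ HilbPolyLib.swapIso _ _) 0 ?_
    exact PnCohLib.subsingleton_HH_tensor_free _ 0
      (PnCohLib.subsingleton_HH_twist (n := 1) (R := k) (-d) 0 (by omega) (by omega)) 2
  | n + 2, E, hE, i, hi, hit, hO, htriv, d, hd => by
    obtain ⟨s, r, j, hs, hr, hk, hrt, hrO, hji, hj, hjt, hjO⟩ := exists_factor le_rfl (by omega) i hit hO
    haveI := hr
    have ih := h0_negative (n + 1) _ (isFinLocFreeOfRank_pb r hE) j hj hjt hjO (restrict_data hji htriv)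
    obtain ⟨t₀, ht₀⟩ := exists_vanish_neg hE
    exact int_up (P := fun t => Subsingleton (Coh.HH (CohB1.ProjSpace (n + 2) k)
        (CohB1.tensorMod E (Twist.twistProjSpace (n + 2) k t)) 0)) (b := -1) (fun t ht => ht₀ t ht 0 (by omega))
      (fun t ht h1 => subsingleton_up hE hs r hk hrt hrO h1 (by simpa using ih (-t) (by omega))) (-d) (by omega)

/-- Splitting on a plane forces vanishing of the middle cohomology. -/
theorem mid_vanish : ∀ (n R : ℕ) (E : (CohB1.ProjSpace n k).Modules), FlatMod.IsFinLocFreeOfRank R E → 2 ≤ n →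
    ∀ (i : CohB1.ProjSpace 2 k ⟶ CohB1.ProjSpace n k), IsClosedImmersion i →
    i ≫ CohB1.ProjSpace.toSpec n k = CohB1.ProjSpace.toSpec 2 k →
    Nonempty ((Scheme.Modules.pullback i).obj (Twist.twistProjSpace n k 1) ≅ Twist.twistProjSpace 2 k 1) →
    ∀ a : Fin R → ℤ, Nonempty ((Scheme.Modules.pullback i).obj E ≅ ∐ fun j => Twist.twistProjSpace 2 k (a j)) →
    ∀ (t : ℤ) (p : ℕ), 1 ≤ p → p < n →
      Subsingleton (Coh.HH (CohB1.ProjSpace n k) (CohB1.tensorMod E (Twist.twistProjSpace n k t)) p)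
  | 0, _, _, _, h, _, _, _, _, _, _, _, _, _, _ => absurd h (by omega)
  | 1, _, _, _, h, _, _, _, _, _, _, _, _, _, _ => absurd h (by omega)
  | 2, R, E, _, _, i, hi, _, hO, a, he, t, p, hp, hp2 => by
    haveI := isIso_self i
    obtain ⟨e⟩ := pb_inv i he.some
    obtain ⟨o⟩ := pb_inv i hO.some
    exact HorrocksPn.vanish_of_split (by omega) (r := R) (a := a) (e ≪≫
      PreservesCoproduct.iso (Scheme.Modules.pullback (inv i)) _ ≪≫
        Sigma.mapIso fun j => (pb_twist (inv i) ⟨o.symm⟩ (a j)).some) t p hp hp2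
  | n + 3, R, E, hE, _, i, hi, hit, hO, a, he, t, p, hp, hpn => by
    obtain ⟨s, r, j, hs, hr, hk, hrt, hrO, hji, hj, hjt, hjO⟩ := exists_factor (by omega) (by omega) i hit hO
    haveI := hr
    have ih := mid_vanish (n + 2) R _ (isFinLocFreeOfRank_pb r hE) (by omega) j hj hjt hjO a
      (restrict_data hji he)
    let Q : ℤ → Prop := fun t => Subsingleton (Coh.HH (CohB1.ProjSpace (n + 3) k)
      (CohB1.tensorMod E (Twist.twistProjSpace (n + 3) k t)) p)
    show Q t
    rcases eq_or_lt_of_le hp with rfl | hp1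
    · obtain ⟨t₀, ht₀⟩ := exists_vanish_neg hE
      exact int_up (P := Q) (b := t) (fun t ht => ht₀ t ht 1 hpn)
        (fun t _ h1 => subsingleton_up hE hs r hk hrt hrO h1 (ih t 1 le_rfl (by omega))) t le_rfl
    · obtain ⟨q, rfl⟩ : ∃ q, p = q + 1 := ⟨p - 1, by omega⟩
      obtain ⟨t₀, ht₀⟩ := PnCohLib.exists_vanishing_twist k E (CurvLib.isCoh_of_locFree hE)
      exact int_down (P := Q) (fun t ht => ht₀ t ht (q + 1) (by omega))
        (fun t h1 => subsingleton_down hE hs r hk hrt hrO h1 (ih t q (by omega) (by omega))) t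

end VBHyp
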